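import Cfsg.Agent.ChevalleyStructure.CoxeterF4E6
import Cfsg.Agent.FastGrp
import Cfsg.Agent.Prune
set_option linter.all false
open scoped Cfsg.Agent.FastGrp

-- part: H560/RealWE6a
section
/-!
# Every element of the Weyl group of type `E₆` is conjugate to its inverse (helper560)

A computation in the reflection representation: `reps` are representatives of the 25 classes, `refls` the 36 reflections
(words, in base 8); for each representative `c` and reflection `t` the table gives `c'` and `h` with `t c h = h c'`.
-/

set_option autoImplicit false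

namespace Cfsg.Agent.H560.RealWE6

open CoxeterSystem Cfsg.Agent.ChevalleyStructure.CoxeterGeom Cfsg.Agent.ChevalleyStructure.CoxeterWordCheck
open Cfsg.Agent.ChevalleyStructure.CoxeterF4E6

/-- The word with base 8 digits `i + 1`. -/
def dec : ℕ → ℕ → List (Fin 6)
  | 0, _ => []
  | k + 1, n => match n with
    | 0 => []
    | m + 1 => ⟨(m % 8) % 6, Nat.mod_lt _ (by decide)⟩ :: dec k ((m + 1) / 8)

/-- Decoding. -/
def wd (n : ℕ) : List (Fin 6) := dec 40 n

/-- The rows of the Cartan matrix. -/
def rowsE : List (List ℤ) := [[2, 0, -1, 0, 0, 0], [0, 2, 0, -1, 0, 0], [-1, 0, 2, -1, 0, 0], [0, -1, -1, 2, -1, 0],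
  [0, 0, 0, -1, 2, -1], [0, 0, 0, 0, -1, 2]]

theorem rowsE_eq : rows A6 = rowsE := by decide +kernel

/-- Equality of two words. -/
def eqv (u v : List (Fin 6)) : Bool :=
  (List.range 6).all fun i => actList rowsE (u.map (·.val)) (unit 6 i) == actList rowsE (v.map (·.val)) (unit 6 i)

/-- Representatives of the classes. -/
def reps : List ℕ := [0, 4, 30, 44, 93, 86, 355, 2841, 678, 798, 757, 1890, 14510, 5910, 5365, 5934, 88270, 146195, 836837, 3025686, 12709370092, 20979041509, 167999281388, 2452748364563, 1497869521555944782645]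

/-- The reflections. -/
def refls : List ℕ := [1, 89, 3, 5913, 227, 342169, 379673, 10003, 4, 14691, 21911705, 24308505, 162, 641811, 300, 941411, 1651688652, 1402427545, 2, 10594, 72243356, 41085715, 5, 19372, 219371939427, 105708700876, 679266, 4623653020, 373, 14039809140323, 7442739373669, 380586607845, 6, 903966845121309, 79289328798898412, 2940157639604881250]

def tab0 : List ℕ := [52321, 6529, 897, 801, 97, 4897, 6561, 609, 1, 929, 39329, 52673, 65, 5025, 161, 7617, 314753, 314817, 641, 673, 40321, 40385, 1409, 1473, 2518113, 2518209, 5569, 322753, 11457, 20145089, 20145825, 2582177, 91809, 161160865, 1289287041, 10314296385]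

def tab1 : List ℕ := [1533602, 52387, 7331, 419203, 58275, 50217593954, 222882, 401740751650, 0, 91074, 314531, 90914, 41635, 40099, 3, 11362, 2516355, 2516419, 5283, 288973506, 320099, 320963, 131, 195, 6277194690, 20131011, 36121666, 2560963, 1219, 784649314, 12936866, 4548258, 1122, 82440727651, 659438546019, 23783337026]

def tab2 : List ℕ := [3748, 1700, 91809, 70437, 1925924, 8997, 13067940, 15405860, 877348, 1702, 104535716, 4679332, 7017252, 5798, 7846, 11942, 698180390, 37426852, 805, 40614, 83203394594468, 44710, 426111755044, 61094, 87909158, 5584544550, 323238, 223940882949796, 151233848100, 702374694, 422832301732, 13712815493, 897, 147954394788, 1901655429, 15213243461]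

def tab3 : List ℕ := [13003876, 38, 6, 806, 102, 44849369990, 3238, 358794959238, 1409, 1126, 44849259110, 104049764, 2059724230, 358794072870, 1, 832398116, 5606108262, 88845382, 449111494, 19239593414, 44848866086, 21736518, 161, 109670, 2308500548, 1288416326, 229941767236, 164080710, 4697190, 359455239270, 1362340934, 170372166, 765030, 362098830438, 44848884838, 18468023364]

def tab4 : List ℕ := [3522, 1474, 24002, 103, 39, 615, 935, 327, 2855, 423, 5031, 24009, 21287, 2727, 22951, 1481, 6740087047435381961, 171465, 1287972296, 170407, 2128401029007994057, 5577, 26791299, 9673, 2704861781311417545, 185468250692999, 71113, 186258524675463, 10, 11709140383767943, 44730762337671, 45521036320135, 170, 1470488105917831, 2972917128, 23783337032]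

def tab5 : List ℕ := [70530, 3347336, 20124552, 2697, 649, 5001, 1363627, 5193, 8, 171691, 183979, 10907307, 72, 24235, 23839052681, 1371819, 14202249, 1384107, 354, 58198791049, 5813641, 192171, 22590856, 161278006153, 92558529416, 30979465, 126918267785, 39368073, 5813640, 23839052680, 13721187720, 82440664456, 98088322, 24245, 337676987995016, 56202011284360]

def tab6 : List ℕ := [7, 39, 3, 807, 1474, 700932711, 7335, 619, 99, 7331, 164061799, 221993, 145, 657, 91074, 877351, 1311190087, 6012363563, 107, 1195, 8811, 24694075485255, 899, 241001255, 5583102567, 6205301553, 197317401046087, 3528476650567, 39674663, 985982411, 49640465195, 62627226643527, 6120231, 7428433361, 384560882475, 161222290505]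

def tab7 : List ℕ := [6, 13003876, 38, 36, 204164, 11757504023553484, 23718, 2994, 358, 25380, 419218, 1470127, 39346, 42386, 3236, 3730543, 189234, 751201964, 93666722246354380, 831364257693361612, 3082017618065223785932, 43110895250514, 2950, 25999, 831433761461003724, 346576104516690, 751515020, 27442854554706, 22959, 5583040172, 238549087087698, 49640090732, 183983, 76371121990738, 357314533836, 23783337037]

def tab8 : List ℕ := [985975908, 21293, 2669, 333, 77, 397, 48070092460, 141, 5, 6008825516, 357310182796, 48072600652, 1093, 44851312012, 101177644808322573301820525, 6196669516, 5582972588, 48072537484, 133, 185802452181346615531252845, 700802732, 6196606348, 3254653419537610150620269, 14134985796069272722975853, 12897390, 751134380, 31059947270674081168862317, 96822956, 836801780308351801207917, 103179214, 103487150, 36378286, 2363006116, 92790901878, 19239586934, 6891555958]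

def tab9 : List ℕ := [240740, 1925924, 1093, 8805, 1700, 25197, 465359, 2669, 13700, 192175, 347086185260722, 58159, 141, 11736012, 1231, 24239, 700763340, 2704439115212466, 365, 1368780, 63412185294514, 1466988, 3023, 143, 752706156, 87595404, 171084, 450440278271666, 367, 94200428, 11074696135663217741, 770460188239522893, 183462, 193999435936099405, 2067496880922225741, 26028789950134]

def tab10 : List ℕ := [53263969380, 426111755044, 6657996164, 421551, 192175, 2518703, 6607, 1371823, 11951, 3023, 39375, 6575, 44719, 21455, 207, 2991, 2900012280943, 39343, 14, 719, 2900012917551, 21423, 1700, 175, 45312701839, 5373913443439, 687, 5373914080047, 4, 83967407503, 182945041329263, 182945041965871, 196, 2858516280719, 53263889806, 426111118414]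

def tab11 : List ℕ := [806482309556790732, 749333749594121676, 1522853318, 2738, 358794959238, 6451858476454274508, 48156644249105130956, 449111494, 614, 26943141, 171090, 700801836, 52677, 4998, 711266198982, 339052, 51617486389389977036, 5606564652, 102, 6009066278, 3367621, 16541931084276530, 44663771942, 16373615777693918002, 24655917157820506990028, 44932358956, 11948, 484044, 172, 50378106322, 2871097877970, 170353356, 1708, 2870483510188, 1483024456422188, 362759938860]

def tab12 : List ℕ := [171472, 23664, 821417626613127, 7280, 23783629608, 9011, 90931, 7428426855, 102677203326631, 21392489, 22897459, 41779, 11947, 59427415495, 200541412743, 2862155, 78487950660499, 1363408, 752706343, 21286345, 378891726539880, 6571341012905063, 1483, 6021649191, 237481072, 372073267, 372073256, 1369118377, 332585, 2972953715, 12897744, 1522346431272, 171, 122241770291, 7781162357648, 18468247216]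

def tab13 : List ℕ := [41577, 4904, 5193, 40008, 314472, 332585, 11756336, 72, 1097, 96889971, 72147, 94050768, 20124552, 1368787, 723, 21286003, 160996563, 9011, 137, 170448, 172752, 171091, 170416, 83, 20487376, 20124563, 21296, 21584, 1363408, 2560912, 3368631, 21286583, 10952940711, 13793846071, 45263557527, 21343319]

def tab14 : List ℕ := [180726888, 1445815080, 22590856, 976, 464, 5072, 944, 2768, 21904, 432, 5040, 61104, 170448, 2736, 22960, 28336, 26007, 189360, 10, 170416, 76919, 175792, 20124552, 1387728, 320983, 27863, 10907312, 91095, 1287972296, 321207, 314487, 320311, 160996520, 5015, 408, 3160]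

def tab15 : List ℕ := [94088295, 39384457, 11761031, 72138, 616105, 10904368, 615209, 700763251, 1470119, 77002, 877363, 752706343, 19, 877172, 9673, 2519968873, 700989025395, 41779, 1363408, 5587, 2363028883, 5203, 183751, 170, 6623120496, 70612, 183760, 5876819, 137, 372485235, 88401363, 1664688, 22951, 58431170003, 1910044048, 6012120151]

def tab16 : List ℕ := [7276, 14134985796069272722975853, 58156, 430, 220859153131411925939597, 183983, 1469688002944172, 384580430924, 418604, 384560732620, 751095468, 21293, 3076642810988, 24701573439531878247629, 10905263, 10904367, 5664124015, 1467180, 1363631, 25262, 50217987149, 44859763791, 170413, 48072600652, 88807885, 3450924271758957287085, 11212461, 367381013293, 25381325968268, 203214, 94229025807191149, 289085102, 11757504023553484, 13164231383358637, 52829184814, 75645937364046]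

def tab17 : List ℕ := [76914, 1426, 4998, 183698, 44849369894, 40338, 2674066, 3133466054, 11186529734, 698918168006, 57970, 883064890834, 5606413094, 6009066278, 396425126694, 20003517077354537778, 41650, 127150646738, 134, 1522853318, 1094, 178671517669614386, 40038, 11761929759266530098, 41586, 153457321426, 7534731829535538, 754909911470926816050, 809175465501483826, 92790908370, 5688059553234, 749163318346402063154, 1385636217804907314, 148088612306, 357124832290258, 5370768844242]

def tab18 : List ℕ := [1383815, 175217, 88501319, 20144935, 1371243, 2571893069120216521, 1201, 1616999, 172967, 21415, 708010599, 421556, 183473, 2731, 64953776399817, 877171, 1905233446102473, 2308641587, 11062663, 6567, 659438637959, 90739, 5275509103783, 87665779, 2515623, 42963394140563, 109652, 89716116, 189363, 87220866163, 44663518611, 1515187, 41587, 11348, 45277832883, 23200091288979]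

def tab19 : List ℕ := [230625422474587250, 485311676172112057906573, 28828177809323410, 87909167, 96822956, 49572981868, 4547373, 12601925732453484, 100815403252763756, 82436776751, 170746671, 4023090, 15, 1524011262898, 12103340, 2600018, 123392550354, 396582806316, 2956, 320210, 2713263, 5199, 23724, 5807, 1418971559842080205, 1845003379796697906, 77, 31059947270674081168862317, 23628, 358877558159, 10500268655, 615117, 40018, 56265360106285, 3425400761421, 943976093222399533997]

def tab20 : List ℕ := [2395824946, 45312691887, 13813455250, 20687954, 832981872635391090, 45344992335, 8436603905714, 1537426, 192178, 702374703, 720049042, 606335726578770, 88565423, 1756342691501746, 22072778368267666, 671537751506, 1421665014823871282, 82432268751, 19166597938, 299478130, 1664687, 185743128599954, 110507641970, 884061135794, 40143, 2539166898, 82429829839, 2752817626833618, 320975, 75757606084050, 3186163606994, 660109878063, 42450, 42209616534927, 5298, 10314118543]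

def tab21 : List ℕ := [1142, 150, 215528837, 22, 26941093, 86, 182, 3368613, 215522981, 3367621, 694, 19239593430, 26943141, 421061, 26940357, 25549130339017526, 5526, 2596595158, 215545221, 3367877, 52677, 196685916179096374, 215522501, 7534731829535542, 9014, 449111510, 52570728103240502, 1556773003644986166, 43563528848499510, 1522853334, 3133466070, 2538557722411754294, 322786705745470262, 11723400662, 92790908374, 151309837782]

def tab22 : List ℕ := [56159216577640, 7019902072200, 399018184971544009, 21, 109685970600, 877487781256, 877487758536, 42263465332991433, 877487759016, 15241858978833865, 2965, 215521687, 338107722663927241, 449273732621096, 121934871830666697, 87, 82430223304, 422893523767, 7019902250056, 2701073546062920, 97417746081225, 39674487, 7019902068392, 631, 10303777992, 11756343, 4959319, 1111, 569015, 1532727, 6009066295, 700763319, 320919, 774574903, 2567383, 6194664247]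

def tab23 : List ℕ := [2875645059885, 908569677, 12415517516627123661, 25711389532973, 357314533039, 196685916179096374, 380071534093014, 25998, 1551939697548402125, 359455632493, 98081997, 216382436107054, 1777325, 199973770766168541042349, 4515214, 12177069773613, 11919365771676845, 825955214, 204174, 88879227695, 5684159279, 86, 784656045, 357782, 10969805, 5071478, 1551939689578390989, 12415517580387216589, 3031132279196781, 1633358, 605167495766638, 465146942253, 95354926173414861, 1839534139062, 75645943898734, 8814]

def tab24 : List ℕ := [605159570629422, 18494305678, 1183635109262, 147744036526, 75644946328686, 9455742168750, 4678350, 27048382653038, 1181967775118, 18501389518, 6606793838, 103230542, 426110331982, 3380975854382, 1192014733934, 18494298510, 147745971886, 52861316206, 27048394036014, 9469080874094, 9455742575406, 3381049254702, 18469133518, 605160189879214, 825437870, 147753068206, 605196539898990, 9678873256750, 18468246414, 825452206, 12935790, 2308793134, 606257094642862, 398, 12897966, 832249518]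

/-- Conjugators of a representative into its inverse. -/
def real : List ℕ := [0, 0, 0, 4, 1, 0, 29, 717, 2, 3, 13, 157, 1822, 665, 13, 45941, 5325, 19, 2284, 5326, 6965, 0, 21, 157, 5325]


/-- The check of one entry. -/
def ok (c t v : ℕ) : Bool :=
  eqv (wd t ++ wd c ++ wd (v / 32)) (wd (v / 32) ++ wd (reps.getD (v % 32) 0))

/-- The roots. -/
private def rts : List (List ℤ) :=
  [([1, 0, 0, 0, 0, 0] : List ℤ), ([0, 1, 0, 0, 0, 0] : List ℤ), ([0, 0, 1, 0, 0, 0] : List ℤ), ([0, 0, 0, 1, 0, 0] : List ℤ), ([0,
  0, 0, 0, 1, 0] : List ℤ), ([0, 0, 0, 0, 0, 1] : List ℤ), ([-1, 0, 0, 0, 0, 0] : List ℤ), ([1, 0, 1, 0, 0, 0] : List ℤ), ([0, -1,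
  0, 0, 0, 0] : List ℤ), ([0, 1, 0, 1, 0, 0] : List ℤ), ([0, 0, -1, 0, 0, 0] : List ℤ), ([0, 0, 1, 1, 0, 0] : List ℤ), ([0, 0, 0,
  -1, 0, 0] : List ℤ), ([0, 0, 0, 1, 1, 0] : List ℤ), ([0, 0, 0, 0, -1, 0] : List ℤ), ([0, 0, 0, 0, 1, 1] : List ℤ), ([0, 0, 0, 0,
  0, -1] : List ℤ), ([-1, 0, -1, 0, 0, 0] : List ℤ), ([1, 0, 1, 1, 0, 0] : List ℤ), ([0, -1, 0, -1, 0, 0] : List ℤ), ([0, 1, 1, 1,
  0, 0] : List ℤ), ([0, 1, 0, 1, 1, 0] : List ℤ), ([0, 0, -1, -1, 0, 0] : List ℤ), ([0, 0, 1, 1, 1, 0] : List ℤ), ([0, 0, 0, -1, -1,
  0] : List ℤ), ([0, 0, 0, 1, 1, 1] : List ℤ), ([0, 0, 0, 0, -1, -1] : List ℤ), ([-1, 0, -1, -1, 0, 0] : List ℤ), ([1, 1, 1, 1, 0,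
  0] : List ℤ), ([1, 0, 1, 1, 1, 0] : List ℤ), ([0, -1, -1, -1, 0, 0] : List ℤ), ([0, -1, 0, -1, -1, 0] : List ℤ), ([0, 1, 1, 1, 1,
  0] : List ℤ), ([0, 1, 0, 1, 1, 1] : List ℤ), ([0, 0, -1, -1, -1, 0] : List ℤ), ([0, 0, 1, 1, 1, 1] : List ℤ), ([0, 0, 0, -1, -1,
  -1] : List ℤ), ([-1, -1, -1, -1, 0, 0] : List ℤ), ([-1, 0, -1, -1, -1, 0] : List ℤ), ([1, 1, 1, 1, 1, 0] : List ℤ), ([1, 0, 1, 1,
  1, 1] : List ℤ), ([0, -1, -1, -1, -1, 0] : List ℤ), ([0, -1, 0, -1, -1, -1] : List ℤ), ([0, 1, 1, 2, 1, 0] : List ℤ), ([0, 1, 1,
  1, 1, 1] : List ℤ), ([0, 0, -1, -1, -1, -1] : List ℤ), ([-1, -1, -1, -1, -1, 0] : List ℤ), ([-1, 0, -1, -1, -1, -1] : List ℤ),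
  ([1, 1, 1, 2, 1, 0] : List ℤ), ([1, 1, 1, 1, 1, 1] : List ℤ), ([0, -1, -1, -2, -1, 0] : List ℤ), ([0, -1, -1, -1, -1, -1] : List
  ℤ), ([0, 1, 1, 2, 1, 1] : List ℤ), ([-1, -1, -1, -2, -1, 0] : List ℤ), ([-1, -1, -1, -1, -1, -1] : List ℤ), ([1, 1, 2, 2, 1, 0] :
  List ℤ), ([1, 1, 1, 2, 1, 1] : List ℤ), ([0, -1, -1, -2, -1, -1] : List ℤ), ([0, 1, 1, 2, 2, 1] : List ℤ), ([-1, -1, -2, -2, -1,
  0] : List ℤ), ([-1, -1, -1, -2, -1, -1] : List ℤ), ([1, 1, 2, 2, 1, 1] : List ℤ), ([1, 1, 1, 2, 2, 1] : List ℤ), ([0, -1, -1, -2,
  -2, -1] : List ℤ), ([-1, -1, -2, -2, -1, -1] : List ℤ), ([-1, -1, -1, -2, -2, -1] : List ℤ), ([1, 1, 2, 2, 2, 1] : List ℤ), ([-1,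
  -1, -2, -2, -2, -1] : List ℤ), ([1, 1, 2, 3, 2, 1] : List ℤ), ([-1, -1, -2, -3, -2, -1] : List ℤ), ([1, 2, 2, 3, 2, 1] : List ℤ),
  ([-1, -2, -2, -3, -2, -1] : List ℤ)]

/-- The action of the simple reflections on the roots: `720 i`, `10 r ↦ 10 r'`. -/
private def stp (j s : ℕ) : ℕ := Nat.mod (Nat.shiftRight 0xb1abcacaa8a7a94a2a4e9da6c89a12a02447d1e0989cc961ae66a3a61a305f21c55140821367f9227a9d65c8f0399c2349b86912c641184388c20968578dc528c82f8b42a8320a1043e8781b864168501183c280960781402800b1abcacaa8a02629629e8ea30a528a93a089da6c89a1c84a447f9f47a9e075972709b86b9a44b1904610e73168578dc528c82f99a2d1865f0a03e8781b954169404d9222a9040c828078f039864348501183c2588c2081402800b1abca7a94acaa8a2a809da6c98a1c93a447f9ea89a58731b88e99a8c18675a1270a08501a47d1907817c5c90457954529ae4d92c489182a9682588c39864348c814046438a03e8f00a01e050dc028be2d03c0c8821e06e16800b1abcacaa8a2a6ca7a589da948c28084a448ea627821c93a08691f47aa26759cc5a14a6b9fe4d9906197c5c9c23e8f06e0d2668be489184390457954208785005a4b0b40f0a02588c398dc0781432050000aa0c8281b86402846acaa8b1abca7a94a2a809da6c98a5893a448ea30899d684a08709f4641e08717c7f95e6b968551ea489cc439a46e19a3e8e63c0dc618b45c904529365012c2086e1e1182a8a02588c348be320640780a1183c0c8281681414000b1abcacaa8a7a949da80a2a4498a3a93a6c96208899fe7d230872126e1ae7099a759ea781a47315e501544b1686417c529864d972398c8371043e8f04890e349182f86e190a02588c208782d0aa16850050000c828078460283c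 (Nat.add j s)) 1024

private theorem stp_ok : ∀ i < 6, ∀ r < 72, stp (720 * i) (10 * r) % 10 = 0 ∧ stp (720 * i) (10 * r) < 720 ∧
    reflList rowsE i (rts.getD r []) = rts.getD (stp (720 * i) (10 * r) / 10) [] := by decide +kernel

private theorem rts_unit : ∀ k < 6, rts.getD k [] = unit 6 k := by decide +kernel

private noncomputable def actT (w : List ℕ) (s : ℕ) : ℕ := @List.rec ℕ (fun _ => ℕ) s (fun j _ ih => stp j ih) w

private def lt (w : List (Fin 6)) : List ℕ := w.map fun i => 720 * i.val

private theorem actT_append (u v : List (Fin 6)) (s : ℕ) : actT (lt (u ++ v)) s = actT (lt u) (actT (lt v) s) := by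
  induction u with
  | nil => rfl
  | cons i u ih => exact congrArg (stp _) ih

private theorem actT_spec (w : List (Fin 6)) {r : ℕ} (hr : r < 72) :
    ∃ r' < 72, actT (lt w) (10 * r) = 10 * r' ∧ actList rowsE (w.map (·.val)) (rts.getD r []) = rts.getD r' [] := by
  induction w with
  | nil => exact ⟨r, hr, rfl, rfl⟩
  | cons i w ih =>
    obtain ⟨r', h1, h2, h3⟩ := ih
    obtain ⟨h4, h5, h6⟩ := stp_ok i i.2 r' h1
    refine ⟨stp (720 * i) (10 * r') / 10, by omega, ?_, ?_⟩
    · change stp (720 * i) (actT (lt w) (10 * r)) = _
      rw [h2]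
      omega
    · change reflList rowsE i (actList rowsE (w.map (·.val)) (rts.getD r [])) = _
      rw [h3, h6]

private noncomputable def all6 (f g : ℕ → ℕ) : Bool :=
  Nat.beq (f 0) (g 0) && (Nat.beq (f 10) (g 10) && (Nat.beq (f 20) (g 20) && (Nat.beq (f 30) (g 30) &&
    (Nat.beq (f 40) (g 40) && Nat.beq (f 50) (g 50)))))

private theorem eqv_of {u v : List (Fin 6)} (h : all6 (actT (lt u)) (actT (lt v)) = true) : eqv u v = true := by
  have h0 : ∀ k < 6, actT (lt u) (10 * k) = actT (lt v) (10 * k) := by
    simp only [all6, Bool.and_eq_true, Nat.beq_eq] at h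
    obtain ⟨h0, h1, h2, h3, h4, h5⟩ := h
    intro k hk
    interval_cases k <;> assumption
  refine List.all_eq_true.2 fun k hk => ?_
  have h1 := List.mem_range.1 hk
  obtain ⟨a, -, a1, a2⟩ := actT_spec u (show k < 72 by omega)
  obtain ⟨b, -, b1, b2⟩ := actT_spec v (show k < 72 by omega)
  have h2 := h0 k h1
  rw [beq_iff_eq, ← rts_unit k h1, a2, b2, show a = b by omega]

private noncomputable def decN (k : ℕ) : ℕ → List ℕ :=
  @Nat.rec (fun _ => ℕ → List ℕ) (fun _ => []) (fun _ ih n => @Bool.rec (fun _ => List ℕ)
    (Nat.mul 720 (Nat.mod (Nat.mod (Nat.pred n) 8) 6) :: ih (Nat.div n 8)) [] (Nat.beq n 0)) k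

private theorem decN_eq (k n : ℕ) : decN k n = lt (dec k n) := by
  induction k generalizing n with
  | zero => rfl
  | succ k ih =>
    cases n with
    | zero => rfl
    | succ m => exact congrArg (List.cons _) (ih _)

private noncomputable def aw (n : ℕ) : ℕ → ℕ := actT (decN 40 n)

private theorem aw_eq (n : ℕ) : aw n = actT (lt (wd n)) := congrArg actT (decN_eq 40 n)

private noncomputable def okF (c t v : ℕ) : Bool :=
  all6 (fun s => aw t (aw c (aw (Nat.div v 32) s))) fun s => aw (Nat.div v 32) (aw (reps.getD (Nat.mod v 32) 0) s)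

private theorem ok_of {c t v : ℕ} (h : okF c t v = true) : ok c t v = true := by
  refine eqv_of (Eq.trans ?_ h)
  simp only [okF, aw_eq]
  congr 1
  · funext s
    rw [actT_append, actT_append]
    rfl
  · funext s
    rw [actT_append]
    rfl

private noncomputable def rowOk (c : ℕ) (ts : List ℕ) : List ℕ → Bool :=
  @List.rec ℕ (fun _ => List ℕ → Bool) (fun _ => true) (fun t _ ih vs =>
    @List.rec ℕ (fun _ => Bool) false (fun v vs _ => okF c t v && ih vs) vs) ts

private theorem row0 : rowOk 0 refls tab0 = true := by decide +kernel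

private theorem row1 : rowOk 4 refls tab1 = true := by decide +kernel

private theorem row2 : rowOk 30 refls tab2 = true := by decide +kernel

private theorem row3 : rowOk 44 refls tab3 = true := by decide +kernel

private theorem row4 : rowOk 93 refls tab4 = true := by decide +kernel

private theorem row5 : rowOk 86 refls tab5 = true := by decide +kernel

private theorem row6 : rowOk 355 refls tab6 = true := by decide +kernel

private theorem row7 : rowOk 2841 refls tab7 = true := by decide +kernel

private theorem row8 : rowOk 678 refls tab8 = true := by decide +kernel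

private theorem row9 : rowOk 798 refls tab9 = true := by decide +kernel

private theorem row10 : rowOk 757 refls tab10 = true := by decide +kernel

private theorem row11 : rowOk 1890 refls tab11 = true := by decide +kernel

private theorem row12 : rowOk 14510 refls tab12 = true := by decide +kernel

private theorem row13 : rowOk 5910 refls tab13 = true := by decide +kernel

private theorem row14 : rowOk 5365 refls tab14 = true := by decide +kernel

private theorem row15 : rowOk 5934 refls tab15 = true := by decide +kernel

private theorem row16 : rowOk 88270 refls tab16 = true := by decide +kernel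

private theorem row17 : rowOk 146195 refls tab17 = true := by decide +kernel

private theorem row18 : rowOk 836837 refls tab18 = true := by decide +kernel

private theorem row19 : rowOk 3025686 refls tab19 = true := by decide +kernel

private theorem row20 : rowOk 12709370092 refls tab20 = true := by decide +kernel

private theorem row21 : rowOk 20979041509 refls tab21 = true := by decide +kernel

private theorem row22 : rowOk 167999281388 refls tab22 = true := by decide +kernel

private theorem row23 : rowOk 2452748364563 refls tab23 = true := by decide +kernel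

private theorem row24 : rowOk 1497869521555944782645 refls tab24 = true := by decide +kernel

end Cfsg.Agent.H560.RealWE6
end

-- part: H560/RealWE6
section
/-!
# Every element of the Weyl group of type `E₆` is conjugate to its inverse (helper560)
-/

set_option autoImplicit false

namespace Cfsg.Agent.H560.RealWE6

open CoxeterSystem Cfsg.Agent.ChevalleyStructure.CoxeterGeom Cfsg.Agent.ChevalleyStructure.CoxeterWordCheck
open Cfsg.Agent.ChevalleyStructure.CoxeterF4E6

/-- Conjugates of the reflections by the simple reflections. -/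
def rtab : List ℕ := [4096, 1091305538, 2182094977, 3322163524, 4446519747, 5537812679, 11863089801, 7736180997, 8826929928, 16175653702, 18341732749, 6629930063, 13208416780, 22671340106, 24836084942, 9919362379, 27114701844, 11029254869, 19632563346, 28123648915, 29330064656, 14318150609, 30437631382, 15425664663, 31547524632, 17687762523, 20844205530, 22000547545, 24165336860, 26331158365, 32639686559, 33747236830, 34838022176, 35929057377, 37086439650, 38177487011]

def rOk (t r : ℕ) : Bool :=
  (List.finRange 6).all fun i => decide ((r / 64 ^ i.val) % 64 < 36) &&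
    eqv (i :: (wd t ++ [i])) (wd (refls.getD ((r / 64 ^ i.val) % 64) 0))

def rAll : List ℕ → List ℕ → Bool
  | t :: ts, r :: rs => rOk t r && rAll ts rs
  | [], _ => true
  | _ :: _, [] => false

private noncomputable def rOkF (t r : ℕ) : Bool :=
  (List.finRange 6).all fun i => decide ((r / 64 ^ i.val) % 64 < 36) &&
    all6 (fun s => stp (720 * i.val) (aw t (stp (720 * i.val) s))) (aw (refls.getD ((r / 64 ^ i.val) % 64) 0))

private theorem rOk_of {t r : ℕ} (h : rOkF t r = true) : rOk t r = true := by
  refine List.all_eq_true.2 fun i hi => ?_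
  obtain ⟨h1, h2⟩ := Bool.and_eq_true_iff.1 (List.all_eq_true.1 h i hi)
  refine Bool.and_eq_true_iff.2 ⟨h1, eqv_of (Eq.trans ?_ h2)⟩
  simp only [aw_eq]
  congr 1
  funext s
  exact congrArg (stp _) (actT_append _ _ _)

private theorem rAll_of : ∀ ts rs : List ℕ, ts.length ≤ rs.length → ((ts.zip rs).all fun x => rOkF x.1 x.2) = true →
    rAll ts rs = true
  | [], _, _, _ => rfl
  | t :: ts, [], h, _ => absurd h (Nat.not_succ_le_zero _)
  | t :: ts, r :: rs, h, h' => by
    obtain ⟨h1, h2⟩ := Bool.and_eq_true_iff.1 h'
    exact Bool.and_eq_true_iff.2 ⟨rOk_of h1, rAll_of ts rs (Nat.le_of_succ_le_succ h) h2⟩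

theorem rAll_ok : rAll refls rtab = true := rAll_of _ _ (by decide +kernel) (by decide +kernel)

def realAll : List ℕ → List ℕ → Bool
  | c :: cs, h :: hs => eqv ((wd c).reverse ++ wd h) (wd h ++ wd c) && realAll cs hs
  | [], _ => true
  | _ :: _, [] => false

private theorem realAll_of : ∀ cs hs : List ℕ, cs.length ≤ hs.length → ((cs.zip hs).all fun x =>
    all6 (fun s => actT (lt (wd x.1).reverse) (aw x.2 s)) fun s => aw x.2 (aw x.1 s)) = true → realAll cs hs = true
  | [], _, _, _ => rfl
  | t :: ts, [], h, _ => absurd h (Nat.not_succ_le_zero _)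
  | t :: ts, r :: rs, h, h' => by
    obtain ⟨h1, h2⟩ := Bool.and_eq_true_iff.1 h'
    refine Bool.and_eq_true_iff.2 ⟨eqv_of (Eq.trans ?_ h1), realAll_of ts rs (Nat.le_of_succ_le_succ h) h2⟩
    simp only [aw_eq]
    congr 1 <;> funext s <;> rw [actT_append]

theorem realAll_ok : realAll reps real = true := realAll_of _ _ (by decide +kernel) (by decide +kernel)

theorem zero_mem : 0 ∈ reps := by decide +kernel

theorem single_mem : ∀ i : Fin 6, (i.val + 1) ∈ refls ∧ wd (i.val + 1) = [i] := by decide +kernel

private theorem rowOk_spec {c : ℕ} : ∀ {ts vs : List ℕ}, rowOk c ts vs = true → ∀ t ∈ ts, ∃ v, ok c t v = true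
  | [], _, _, t, ht => absurd ht List.not_mem_nil
  | a :: ts, v :: vs, h, t, ht => by
    obtain ⟨h1, h2⟩ : okF c a v = true ∧ rowOk c ts vs = true := Bool.and_eq_true_iff.1 h
    rcases List.mem_cons.1 ht with rfl | ht
    · exact ⟨v, ok_of h1⟩
    · exact rowOk_spec h2 t ht
  | a :: ts, [], h, _, _ => absurd h Bool.false_ne_true

theorem rAll_spec : ∀ {ts rs : List ℕ}, rAll ts rs = true → ∀ t ∈ ts, ∃ r, rOk t r = true
  | [], _, _, t, ht => absurd ht List.not_mem_nil
  | a :: ts, v :: vs, h, t, ht => by
    rw [rAll, Bool.and_eq_true] at h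
    rcases List.mem_cons.1 ht with rfl | ht
    · exact ⟨v, h.1⟩
    · exact rAll_spec h.2 t ht
  | a :: ts, [], h, _, _ => by simp [rAll] at h

theorem realAll_spec : ∀ {ts rs : List ℕ}, realAll ts rs = true → ∀ c ∈ ts, ∃ h : ℕ,
    eqv ((wd c).reverse ++ wd h) (wd h ++ wd c) = true
  | [], _, _, t, ht => absurd ht List.not_mem_nil
  | a :: ts, v :: vs, h, t, ht => by
    rw [realAll, Bool.and_eq_true] at h
    rcases List.mem_cons.1 ht with rfl | ht
    · exact ⟨v, h.1⟩
    · exact realAll_spec h.2 t ht
  | a :: ts, [], h, _, _ => by simp [realAll] at h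

theorem all_ok : ∀ c ∈ reps, ∀ t ∈ refls, ∃ v, ok c t v = true := by
  rw [reps]
  simp only [List.forall_mem_cons]
  exact ⟨rowOk_spec row0, rowOk_spec row1, rowOk_spec row2, rowOk_spec row3, rowOk_spec row4, rowOk_spec row5, rowOk_spec row6, rowOk_spec row7, rowOk_spec row8, rowOk_spec row9, rowOk_spec row10, rowOk_spec row11, rowOk_spec row12, rowOk_spec row13, rowOk_spec row14, rowOk_spec row15, rowOk_spec row16, rowOk_spec row17, rowOk_spec row18, rowOk_spec row19, rowOk_spec row20, rowOk_spec row21, rowOk_spec row22, rowOk_spec row23, rowOk_spec row24, fun _ h => absurd h List.not_mem_nil⟩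

theorem getD_mem (k : ℕ) : reps.getD k 0 ∈ reps := by
  rw [List.getD_eq_getElem?_getD]
  cases h : reps[k]? with
  | none => exact zero_mem
  | some a => exact List.mem_of_getElem? h

variable {W : Type*} [Group W] (cs : CoxeterSystem CoxeterMatrix.E₆ W)

include cs

theorem eq_of_eqv {u v : List (Fin 6)} (h : eqv u v = true) : cs.wordProd u = cs.wordProd v := by
  refine wordProd_eq_wordProd cs isCartan6 u v ?_
  rw [rowsE_eq]
  exact h

theorem step {c t : ℕ} (hc : c ∈ reps) (ht : t ∈ refls) :
    ∃ c' ∈ reps, ∃ h : W, cs.wordProd (wd t) * cs.wordProd (wd c) = h * cs.wordProd (wd c') * h⁻¹ := by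
  obtain ⟨v, hv⟩ := all_ok c hc t ht
  refine ⟨_, getD_mem (v % 32), cs.wordProd (wd (v / 32)), ?_⟩
  have h1 := eq_of_eqv cs hv
  rw [wordProd_append, wordProd_append, wordProd_append] at h1
  rw [← h1, mul_inv_cancel_right]

theorem refl_mem (g : W) (i : Fin 6) : ∃ t ∈ refls, g⁻¹ * cs.simple i * g = cs.wordProd (wd t) := by
  induction g using cs.simple_induction_right with
  | one =>
    obtain ⟨h1, h2⟩ := single_mem i
    exact ⟨_, h1, by rw [h2]; simp⟩
  | mul_simple_right g j ih =>
    obtain ⟨t, ht, h⟩ := ih
    obtain ⟨r, hr⟩ := rAll_spec rAll_ok t ht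
    rw [rOk, List.all_eq_true] at hr
    have h1 := hr j (List.mem_finRange j)
    rw [Bool.and_eq_true, decide_eq_true_eq] at h1
    refine ⟨refls.getD ((r / 64 ^ j.val) % 64) 0, ?_, ?_⟩
    · rw [List.getD_eq_getElem _ _ (by exact h1.1)]
      exact List.getElem_mem _
    · have h2 := eq_of_eqv cs h1.2
      rw [wordProd_cons, wordProd_append, wordProd_singleton, ← h] at h2
      rw [← h2, mul_inv_rev, cs.inv_simple]
      simp only [mul_assoc]

/-- Every element is conjugate to one of the representatives. -/
theorem cover (w : W) : ∃ c ∈ reps, ∃ g : W, w = g * cs.wordProd (wd c) * g⁻¹ := by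
  induction w using cs.simple_induction_left with
  | one => exact ⟨0, zero_mem, 1, by simp [wd, dec]⟩
  | mul_simple_left w i ih =>
    obtain ⟨c, hc, g, rfl⟩ := ih
    obtain ⟨t, ht, h1⟩ := refl_mem cs g i
    obtain ⟨c', hc', h, h2⟩ := step cs hc ht
    refine ⟨c', hc', g * h, ?_⟩
    rw [← h1] at h2
    calc cs.simple i * (g * cs.wordProd (wd c) * g⁻¹)
        = g * (g⁻¹ * cs.simple i * g * cs.wordProd (wd c)) * g⁻¹ := by group
      _ = g * (h * cs.wordProd (wd c') * h⁻¹) * g⁻¹ := by rw [h2]
      _ = _ := by group

/-- **Every element of `W(E₆)` is conjugate to its inverse.** -/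
theorem real_E6 (w : W) : IsConj w w⁻¹ := by
  obtain ⟨c, hc, g, rfl⟩ := cover cs w
  obtain ⟨h, hh⟩ := realAll_spec realAll_ok c hc
  have h1 := eq_of_eqv cs hh
  rw [wordProd_append, wordProd_append, wordProd_reverse] at h1
  rw [isConj_iff]
  refine ⟨g * cs.wordProd (wd h) * g⁻¹, ?_⟩
  generalize cs.wordProd (wd h) = a at h1 ⊢
  generalize cs.wordProd (wd c) = b at h1 ⊢
  have h2 : b⁻¹ = a * b * a⁻¹ := by rw [← h1, mul_inv_cancel_right]
  calc g * a * g⁻¹ * (g * b * g⁻¹) * (g * a * g⁻¹)⁻¹ = g * (a * b * a⁻¹) * g⁻¹ := by group
    _ = g * b⁻¹ * g⁻¹ := by rw [← h2]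
    _ = (g * b * g⁻¹)⁻¹ := by group

end Cfsg.Agent.H560.RealWE6
end

private theorem dce_1240cc0c4730 : _root_.True := by
  try have : _root_.True := by simp only [_root_.Cfsg.Agent.H560.RealWE6.rAll.eq_1]
  try have : _root_.True := by simp only [_root_.Cfsg.Agent.H560.RealWE6.rAll.eq_def]
  try have : _root_.True := by simp only [_root_.Cfsg.Agent.H560.RealWE6.rAll.eq_2]
  try have : _root_.True := by simp only [_root_.Cfsg.Agent.H560.RealWE6.realAll.eq_3]
  try have : _root_.True := by simp only [_root_.Cfsg.Agent.H560.RealWE6.rowOk.eq_1]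
  try have : _root_.True := by simp only [_root_.Cfsg.Agent.H560.RealWE6.rAll.eq_3]
  try have : _root_.True := by simp only [_root_.Cfsg.Agent.H560.RealWE6.realAll.eq_2]
  try have : _root_.True := by simp only [_root_.Cfsg.Agent.H560.RealWE6.dec.eq_1]
  try have : _root_.True := by simp only [_root_.Cfsg.Agent.H560.RealWE6.rowOk.eq_3]
  try have : _root_.True := by simp only [_root_.Cfsg.Agent.H560.RealWE6.dec.eq_def]
  try have : _root_.True := by simp only [_root_.Cfsg.Agent.H560.RealWE6.rOk.eq_1]
  try have : _root_.True := by simp only [_root_.Cfsg.Agent.H560.RealWE6.dec.eq_3]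
  try have : _root_.True := by simp only [_root_.Cfsg.Agent.H560.RealWE6.rowOk.eq_def]
  try have : _root_.True := by simp only [_root_.Cfsg.Agent.H560.RealWE6.wd.eq_1]
  try have : _root_.True := by simp only [_root_.Cfsg.Agent.H560.RealWE6.realAll.eq_1]
  try have : _root_.True := by simp only [_root_.Cfsg.Agent.H560.RealWE6.rowOk.eq_2]
  try have : _root_.True := by simp only [_root_.Cfsg.Agent.H560.RealWE6.reps.eq_1]
  try have : _root_.True := by simp only [_root_.Cfsg.Agent.H560.RealWE6.dec.eq_2]
  try have : _root_.True := by simp only [_root_.Cfsg.Agent.H560.RealWE6.realAll.eq_def]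
  exact _root_.True.intro
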